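import Mathlib.GroupTheory.Sylow
import Cfsg.Prelude.Def_Amalgam
import Cfsg.Agent.Coprime.Fitting

/-! Basic facts about the coset graph of a pair of subgroups. -/

set_option linter.style.haveILetI false

namespace Cfsg.Lib.Amalgam

open Cfsg MulAction

variable {X : Type*} [Group X] {M₁ M₂ : Subgroup X}

theorem adj_cases {δ μ : CosetVertex M₁ M₂} (h : (cosetGraph M₁ M₂).Adj δ μ) :
    ∃ x : X, (δ = Sum.inl (x : X ⧸ M₁) ∧ μ = Sum.inr (x : X ⧸ M₂)) ∨
      (δ = Sum.inr (x : X ⧸ M₂) ∧ μ = Sum.inl (x : X ⧸ M₁)) := by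
  rw [cosetGraph, SimpleGraph.fromRel_adj] at h
  rcases h.2 with ⟨x, hx⟩ | ⟨x, hx⟩
  · exact ⟨x, Or.inl hx⟩
  · exact ⟨x, Or.inr ⟨hx.2, hx.1⟩⟩

theorem adj_inl_inr (x : X) :
    (cosetGraph M₁ M₂).Adj (Sum.inl (x : X ⧸ M₁)) (Sum.inr (x : X ⧸ M₂)) := by
  rw [cosetGraph, SimpleGraph.fromRel_adj]
  exact ⟨by simp, Or.inl ⟨x, rfl, rfl⟩⟩

theorem smul_mk (M : Subgroup X) (g x : X) : g • (x : X ⧸ M) = ((g * x : X) : X ⧸ M) := rfl

theorem smul_inl (g x : X) :
    g • (Sum.inl (x : X ⧸ M₁) : CosetVertex M₁ M₂) = Sum.inl ((g * x : X) : X ⧸ M₁) := rfl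

theorem smul_inr (g x : X) :
    g • (Sum.inr (x : X ⧸ M₂) : CosetVertex M₁ M₂) = Sum.inr ((g * x : X) : X ⧸ M₂) := rfl

theorem adj_smul {δ μ : CosetVertex M₁ M₂} (g : X) (h : (cosetGraph M₁ M₂).Adj δ μ) :
    (cosetGraph M₁ M₂).Adj (g • δ) (g • μ) := by
  obtain ⟨x, ⟨rfl, rfl⟩ | ⟨rfl, rfl⟩⟩ := adj_cases h
  · exact adj_inl_inr (g * x)
  · exact (adj_inl_inr (g * x)).symm

theorem stab_inl (a : X ⧸ M₁) :
    stabilizer X (Sum.inl a : CosetVertex M₁ M₂) = stabilizer X a := by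
  ext g
  simp [mem_stabilizer_iff]

theorem stab_inr (a : X ⧸ M₂) :
    stabilizer X (Sum.inr a : CosetVertex M₁ M₂) = stabilizer X a := by
  ext g
  simp [mem_stabilizer_iff]

theorem stab_mk (M : Subgroup X) (x : X) :
    stabilizer X (x : X ⧸ M) = M.map (MulAut.conj x).toMonoidHom := by
  ext g
  rw [mem_stabilizer_iff, smul_mk, QuotientGroup.eq, Subgroup.mem_map]
  constructor
  · intro h
    refine ⟨x⁻¹ * g * x, ?_, ?_⟩
    · have := M.inv_mem h
      simpa [mul_assoc] using this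
    · simp [mul_assoc]
  · rintro ⟨m, hm, rfl⟩
    have := M.inv_mem hm
    simpa [mul_assoc] using this

theorem stab_inl_mk (x : X) :
    stabilizer X (Sum.inl (x : X ⧸ M₁) : CosetVertex M₁ M₂) = M₁.map (MulAut.conj x).toMonoidHom := by
  rw [stab_inl, stab_mk]

theorem stab_inr_mk (x : X) :
    stabilizer X (Sum.inr (x : X ⧸ M₂) : CosetVertex M₁ M₂) = M₂.map (MulAut.conj x).toMonoidHom := by
  rw [stab_inr, stab_mk]

theorem edge_mk (x : X) :
    edgeStabilizer (Sum.inl (x : X ⧸ M₁) : CosetVertex M₁ M₂) (Sum.inr (x : X ⧸ M₂)) =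
      (M₁ ⊓ M₂).map (MulAut.conj x).toMonoidHom := by
  rw [edgeStabilizer, stab_inl_mk, stab_inr_mk, Subgroup.map_inf]
  exact (MulAut.conj x).injective

theorem reachable (hgen : M₁ ⊔ M₂ = ⊤) (δ : CosetVertex M₁ M₂) :
    (cosetGraph M₁ M₂).Reachable (Sum.inl ((1 : X) : X ⧸ M₁)) δ := by
  have key : ∀ g : X, g ∈ M₁ ⊔ M₂ → ∀ x : X,
      ((cosetGraph M₁ M₂).Reachable (Sum.inl ((1 : X) : X ⧸ M₁)) (Sum.inl (x : X ⧸ M₁)) ↔
        (cosetGraph M₁ M₂).Reachable (Sum.inl ((1 : X) : X ⧸ M₁))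
          (Sum.inl ((x * g : X) : X ⧸ M₁))) := by
    intro g hg
    rw [Subgroup.sup_eq_closure] at hg
    induction hg using Subgroup.closure_induction with
    | mem m hm =>
      intro x
      rcases hm with hm | hm
      · have : ((x * m : X) : X ⧸ M₁) = (x : X ⧸ M₁) := by
          rw [QuotientGroup.eq]
          simpa using M₁.inv_mem hm
        rw [this]
      · have : ((x * m : X) : X ⧸ M₂) = (x : X ⧸ M₂) := by
          rw [QuotientGroup.eq]
          simpa using M₂.inv_mem hm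
        have e1 := (adj_inl_inr (M₁ := M₁) (M₂ := M₂) x).reachable
        have e2 := (adj_inl_inr (M₁ := M₁) (M₂ := M₂) (x * m)).reachable
        rw [this] at e2
        exact ⟨fun h => (h.trans e1).trans e2.symm, fun h => (h.trans e2).trans e1.symm⟩
    | one => intro x; rw [mul_one]
    | mul a b _ _ ha hb => intro x; rw [← mul_assoc]; exact (ha x).trans (hb (x * a))
    | inv a _ ha =>
      intro x
      have := ha (x * a⁻¹)
      rw [inv_mul_cancel_right] at this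
      exact this.symm
  have hall : ∀ x : X,
      (cosetGraph M₁ M₂).Reachable (Sum.inl ((1 : X) : X ⧸ M₁)) (Sum.inl (x : X ⧸ M₁)) := by
    intro x
    have h := (key x (by rw [hgen]; trivial) 1).1 (SimpleGraph.Reachable.refl _)
    rwa [one_mul] at h
  rcases δ with a | a
  · induction a using QuotientGroup.induction_on with
    | H x => exact hall x
  · induction a using QuotientGroup.induction_on with
    | H x => exact (hall x).trans (adj_inl_inr x).reachable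

theorem connected (hgen : M₁ ⊔ M₂ = ⊤) : (cosetGraph M₁ M₂).Connected := by
  haveI : Nonempty (CosetVertex M₁ M₂) := ⟨Sum.inl ((1 : X) : X ⧸ M₁)⟩
  exact ⟨fun u v => (reachable hgen u).symm.trans (reachable hgen v)⟩

/-- A property inherited along edges holds everywhere. -/
theorem forall_vertex (hgen : M₁ ⊔ M₂ = ⊤) (P : CosetVertex M₁ M₂ → Prop)
    (δ : CosetVertex M₁ M₂) (h0 : P δ)
    (hstep : ∀ u v, P u → (cosetGraph M₁ M₂).Adj u v → P v) : ∀ v, P v := by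
  intro v
  obtain ⟨w⟩ := (connected hgen).preconnected δ v
  induction w with
  | nil => exact h0
  | cons h p ih => exact ih (hstep _ _ h0 h)

theorem faithful (h : ∀ N : Subgroup X, N ≤ M₁ ⊓ M₂ → N.Normal → N = ⊥) {T : Subgroup X}
    (hT : ∀ v : CosetVertex M₁ M₂, T ≤ stabilizer X v) : T = ⊥ := by
  set K : Subgroup X := (MulAction.toPermHom X (CosetVertex M₁ M₂)).ker with hKdef
  have hmem : ∀ g : X, g ∈ K ↔ ∀ v : CosetVertex M₁ M₂, g • v = v := by
    intro g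
    rw [hKdef, MonoidHom.mem_ker, Equiv.ext_iff]
    simp
  have hK : K = ⊥ := by
    refine h K (fun g hg => ?_) inferInstance
    rw [hmem] at hg
    have h1 : g ∈ stabilizer X (Sum.inl ((1 : X) : X ⧸ M₁) : CosetVertex M₁ M₂) := hg _
    have h2 : g ∈ stabilizer X (Sum.inr ((1 : X) : X ⧸ M₂) : CosetVertex M₁ M₂) := hg _
    rw [stab_inl_mk] at h1
    rw [stab_inr_mk] at h2
    simp at h1 h2
    exact ⟨h1, h2⟩
  rw [eq_bot_iff, ← hK]
  intro g hg
  rw [hmem]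
  exact fun v => hT v hg

theorem transitive {δ μ μ' : CosetVertex M₁ M₂} (hμ : (cosetGraph M₁ M₂).Adj δ μ)
    (hμ' : (cosetGraph M₁ M₂).Adj δ μ') : ∃ g ∈ stabilizer X δ, g • μ = μ' := by
  obtain ⟨x, ⟨rfl, rfl⟩ | ⟨rfl, rfl⟩⟩ := adj_cases hμ
  · obtain ⟨y, ⟨hd, rfl⟩ | ⟨hd, rfl⟩⟩ := adj_cases hμ'
    · refine ⟨y * x⁻¹, ?_, ?_⟩
      · rw [mem_stabilizer_iff, smul_inl, inv_mul_cancel_right, hd]
      · rw [smul_inr, inv_mul_cancel_right]
    · simp at hd
  · obtain ⟨y, ⟨hd, rfl⟩ | ⟨hd, rfl⟩⟩ := adj_cases hμ'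
    · simp at hd
    · refine ⟨y * x⁻¹, ?_, ?_⟩
      · rw [mem_stabilizer_iff, smul_inr, inv_mul_cancel_right, hd]
      · rw [smul_inl, inv_mul_cancel_right]

/-- If the normalizer of `T` is transitive on the neighbours of both ends of an edge fixed by `T`,
then `T` is trivial. -/
theorem eq_bot_of_transitive (h : IsAmalgamPair M₁ M₂) {δ μ : CosetVertex M₁ M₂}
    (hμ : (cosetGraph M₁ M₂).Adj δ μ) {T : Subgroup X} (hT : T ≤ edgeStabilizer δ μ)
    (hδ : ∀ ν ν' : CosetVertex M₁ M₂, (cosetGraph M₁ M₂).Adj δ ν → (cosetGraph M₁ M₂).Adj δ ν' →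
      ∃ g ∈ Subgroup.normalizer (T : Set X) ⊓ stabilizer X δ, g • ν = ν')
    (hμ' : ∀ ν ν' : CosetVertex M₁ M₂, (cosetGraph M₁ M₂).Adj μ ν → (cosetGraph M₁ M₂).Adj μ ν' →
      ∃ g ∈ Subgroup.normalizer (T : Set X) ⊓ stabilizer X μ, g • ν = ν') : T = ⊥ := by
  refine faithful h.2.2.2 ?_
  have hall : ∀ v : CosetVertex M₁ M₂, ∃ n ∈ Subgroup.normalizer (T : Set X),
      v = n • δ ∨ v = n • μ := by
    refine forall_vertex h.1 _ δ ⟨1, one_mem _, Or.inl (one_smul X δ).symm⟩ ?_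
    rintro u v ⟨n, hn, rfl | rfl⟩ huv
    · have h' := adj_smul n⁻¹ huv
      rw [inv_smul_smul] at h'
      obtain ⟨g, hg, hgv⟩ := hδ μ (n⁻¹ • v) hμ h'
      exact ⟨n * g, mul_mem hn hg.1, Or.inr (by rw [mul_smul, hgv, smul_inv_smul])⟩
    · have h' := adj_smul n⁻¹ huv
      rw [inv_smul_smul] at h'
      obtain ⟨g, hg, hgv⟩ := hμ' δ (n⁻¹ • v) hμ.symm h'
      exact ⟨n * g, mul_mem hn hg.1, Or.inl (by rw [mul_smul, hgv, smul_inv_smul])⟩
  intro v t ht
  obtain ⟨n, hn, hv⟩ := hall v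
  have hin : n⁻¹ * t * n ∈ T := (Subgroup.mem_normalizer_iff''.1 hn t).1 ht
  have htn : t * n = n * (n⁻¹ * t * n) := by simp [mul_assoc]
  rw [mem_stabilizer_iff]
  rcases hv with rfl | rfl
  · rw [← mul_smul, htn, mul_smul, mem_stabilizer_iff.1 (hT hin).1]
  · rw [← mul_smul, htn, mul_smul, mem_stabilizer_iff.1 (hT hin).2]

/-- `O_p(Mᵢ)` lies in the intersection, in a pair of characteristic `p`. -/
theorem pCoreOf_le_inf {p : ℕ} [Fact p.Prime] (h : IsCharPAmalgamPair p M₁ M₂) :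
    pCoreOf p M₁ ≤ M₁ ⊓ M₂ ∧ pCoreOf p M₂ ≤ M₁ ⊓ M₂ := by
  obtain ⟨-, hf1, hf2, -, -, hcard, -, -⟩ := h
  haveI := hf1
  haveI := hf2
  haveI : Finite ↥(M₁ ⊓ M₂) :=
    Finite.of_injective (Subgroup.inclusion (inf_le_left : M₁ ⊓ M₂ ≤ M₁))
      (Subgroup.inclusion_injective _)
  obtain ⟨S⟩ : Nonempty (Sylow p ↥(M₁ ⊓ M₂)) := inferInstance
  have main : ∀ (M : Subgroup X) [Finite M] (hle : M₁ ⊓ M₂ ≤ M),
      (∀ P : Sylow p M, Nat.card S = Nat.card P) → pCoreOf p M ≤ M₁ ⊓ M₂ := by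
    intro M _ hle hc
    let T : Subgroup M := (S : Subgroup ↥(M₁ ⊓ M₂)).map (Subgroup.inclusion hle)
    have hTp : IsPGroup p T := S.isPGroup'.map _
    obtain ⟨P, hP⟩ := hTp.exists_le_sylow
    have hTcard : Nat.card T = Nat.card S :=
      (Nat.card_congr ((S : Subgroup ↥(M₁ ⊓ M₂)).equivMapOfInjective _
        (Subgroup.inclusion_injective hle)).toEquiv).symm
    have hTP : T = (P : Subgroup M) :=
      Subgroup.eq_of_le_of_card_ge hP (le_of_eq (by rw [hTcard]; exact (hc P).symm))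
    rw [pCoreOf, Subgroup.map_le_iff_le_comap]
    intro g hg
    have h1 := Cfsg.Lib.Coprime.pCore_le_sylow p P hg
    rw [← hTP] at h1
    obtain ⟨s, -, rfl⟩ := h1
    exact s.2
  constructor
  · exact main M₁ inf_le_left fun P => by
      obtain ⟨P₂⟩ : Nonempty (Sylow p M₂) := inferInstance
      exact (hcard S P P₂).1
  · exact main M₂ inf_le_right fun P => by
      obtain ⟨P₁⟩ : Nonempty (Sylow p M₁) := inferInstance
      exact (hcard S P₁ P).2

theorem map_pCore_le_equiv {G H : Type*} [Group G] [Group H] (p : ℕ) (e : G ≃* H) :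
    (pCore p G).map e.toMonoidHom ≤ pCore p H := by
  rw [Subgroup.map_le_iff_le_comap]
  refine sSup_le fun N hN => ?_
  rw [← Subgroup.map_le_iff_le_comap]
  exact le_sSup ⟨hN.1.map e.toMonoidHom e.surjective, hN.2.map _⟩

theorem pCore_equiv {G H : Type*} [Group G] [Group H] (p : ℕ) (e : G ≃* H) :
    (pCore p G).map e.toMonoidHom = pCore p H := by
  refine le_antisymm (map_pCore_le_equiv p e) ?_
  have h := Subgroup.map_mono (f := e.toMonoidHom) (map_pCore_le_equiv p e.symm)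
  rw [Subgroup.map_map] at h
  have he : e.toMonoidHom.comp e.symm.toMonoidHom = MonoidHom.id H := by
    ext x; simp
  rwa [he, Subgroup.map_id] at h

theorem pCoreOf_map_conj (p : ℕ) (M : Subgroup X) (x : X) :
    pCoreOf p (M.map (MulAut.conj x).toMonoidHom) =
      (pCoreOf p M).map (MulAut.conj x).toMonoidHom := by
  let e : M ≃* ↥(M.map (MulAut.conj x).toMonoidHom) :=
    M.equivMapOfInjective _ (MulAut.conj x).injective
  rw [pCoreOf, pCoreOf, ← pCore_equiv p e, Subgroup.map_map, Subgroup.map_map]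
  rfl

theorem vertexQ_le_edge {p : ℕ} [Fact p.Prime] (h : IsCharPAmalgamPair p M₁ M₂)
    {δ μ : CosetVertex M₁ M₂} (hμ : (cosetGraph M₁ M₂).Adj δ μ) :
    vertexQ p δ ≤ edgeStabilizer δ μ := by
  obtain ⟨x, ⟨rfl, rfl⟩ | ⟨rfl, rfl⟩⟩ := adj_cases hμ
  · rw [vertexQ, stab_inl_mk, pCoreOf_map_conj, edge_mk]
    exact Subgroup.map_mono (pCoreOf_le_inf h).1
  · rw [vertexQ, stab_inr_mk, pCoreOf_map_conj,
      show edgeStabilizer (Sum.inr (x : X ⧸ M₂) : CosetVertex M₁ M₂) (Sum.inl (x : X ⧸ M₁)) =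
        edgeStabilizer (Sum.inl (x : X ⧸ M₁) : CosetVertex M₁ M₂) (Sum.inr (x : X ⧸ M₂))
        from inf_comm _ _, edge_mk]
    exact Subgroup.map_mono (pCoreOf_le_inf h).2

theorem vertexQ_le_kernel {p : ℕ} [Fact p.Prime] (h : IsCharPAmalgamPair p M₁ M₂)
    (δ : CosetVertex M₁ M₂) : vertexQ p δ ≤ neighbourKernel δ := by
  refine le_inf ?_ (le_iInf₂ fun μ hμ => (vertexQ_le_edge h hμ).trans inf_le_right)
  exact Subgroup.map_subtype_le _

end Cfsg.Lib.Amalgam
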