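import Cfsg.Agent.Components.Amalgam.Method
import Cfsg.Agent.Transfer.Basic
import Cfsg.Prelude.Def_LocalStructure

/-! The iterated neighbourhood groups `V_λ^{(n)}` are not centralized by `O^p(L_λ)` modulo a smaller one. -/

set_option autoImplicit false
set_option linter.style.haveILetI false

namespace Cfsg.Lib.Amalgam

open Cfsg MulAction
open scoped commutatorElement

variable {X : Type*} [Group X] {M₁ M₂ : Subgroup X} {p : ℕ}

theorem dist_smul_le (g : X) (hconn : (cosetGraph M₁ M₂).Connected) (a b : CosetVertex M₁ M₂) :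
    (cosetGraph M₁ M₂).dist (g • a) (g • b) ≤ (cosetGraph M₁ M₂).dist a b := by
  obtain ⟨w, hw⟩ := hconn.exists_walk_length_eq_dist a b
  let f : cosetGraph M₁ M₂ →g cosetGraph M₁ M₂ := ⟨(g • ·), fun h => adj_smul g h⟩
  have := SimpleGraph.dist_le (w.map f)
  rw [SimpleGraph.Walk.length_map, hw] at this
  exact this

theorem sylow_term_le_vertexZ (δ : CosetVertex M₁ M₂) (P : Sylow p ↥(stabilizer X δ)) :
    omegaZ p ((P : Subgroup ↥(stabilizer X δ)).map (stabilizer X δ).subtype) ≤ vertexZ p δ :=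
  le_iSup (fun P : Sylow p ↥(stabilizer X δ) =>
    omegaZ p ((P : Subgroup ↥(stabilizer X δ)).map (stabilizer X δ).subtype)) P

theorem map_conj_vertexZ [Fact p.Prime] (g : X) (μ : CosetVertex M₁ M₂) :
    (vertexZ p μ).map (MulAut.conj g).toMonoidHom ≤ vertexZ p (g • μ) := by
  rw [vertexZ, sylowCenterClosure, Subgroup.map_iSup]
  refine iSup_le fun S => ?_
  refine (map_conj_omegaZ p _ g).trans ?_
  have hst : stabilizer X (g • μ) = (stabilizer X μ).map (MulAut.conj g).toMonoidHom := by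
    rw [MulAction.stabilizer_smul_eq_stabilizer_map_conj]
  -- the conjugate Sylow subgroup
  let e : ↥(stabilizer X μ) ≃* ↥(stabilizer X (g • μ)) :=
    ((stabilizer X μ).equivMapOfInjective _ (MulAut.conj g).injective).trans (MulEquiv.subgroupCongr hst.symm)
  let S' : Sylow p ↥(stabilizer X (g • μ)) := S.comapOfInjective e.symm.toMonoidHom e.symm.injective
    (by intro x hx; exact ⟨e x, by simp⟩)
  have hS' : (S' : Subgroup ↥(stabilizer X (g • μ))).map (stabilizer X (g • μ)).subtype =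
      ((S : Subgroup ↥(stabilizer X μ)).map (stabilizer X μ).subtype).map (MulAut.conj g).toMonoidHom := by
    ext x
    constructor
    · rintro ⟨y, hy, rfl⟩
      refine ⟨(e.symm y : X), ⟨_, hy, rfl⟩, ?_⟩
      show g * (e.symm y : X) * g⁻¹ = (y : X)
      conv_rhs => rw [← e.apply_symm_apply y]
      rfl
    · rintro ⟨_, ⟨y, hy, rfl⟩, rfl⟩
      refine ⟨e y, ?_, rfl⟩
      show e.symm (e y) ∈ (S : Subgroup ↥(stabilizer X μ))
      rwa [e.symm_apply_apply]
  rw [← hS']
  exact sylow_term_le_vertexZ _ S'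

theorem map_conj_vIter [Fact p.Prime] (hconn : (cosetGraph M₁ M₂).Connected) (g : X) (n : ℕ)
    (δ : CosetVertex M₁ M₂) :
    (vertexVIter p M₁ M₂ n δ).map (MulAut.conj g).toMonoidHom ≤ vertexVIter p M₁ M₂ n (g • δ) := by
  rw [vertexVIter, Subgroup.map_iSup]
  refine iSup_le fun μ => (map_conj_vertexZ g _).trans ?_
  exact le_iSup (fun ν : {ν : CosetVertex M₁ M₂ // (cosetGraph M₁ M₂).dist (g • δ) ν ≤ n} =>
    vertexZ p (ν : CosetVertex M₁ M₂)) ⟨g • (μ : CosetVertex M₁ M₂), (dist_smul_le g hconn _ _).trans μ.2⟩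

theorem conj_mem_vIter [Fact p.Prime] (hconn : (cosetGraph M₁ M₂).Connected) {g : X} {n : ℕ}
    {δ : CosetVertex M₁ M₂} (hg : g ∈ stabilizer X δ) {x : X} (hx : x ∈ vertexVIter p M₁ M₂ n δ) :
    g * x * g⁻¹ ∈ vertexVIter p M₁ M₂ n δ := by
  have h := map_conj_vIter hconn g n δ ⟨x, hx, rfl⟩
  rw [mem_stabilizer_iff.mp hg] at h
  exact h

theorem stab_le_normalizer_vIter [Fact p.Prime] (hconn : (cosetGraph M₁ M₂).Connected) (n : ℕ)
    (δ : CosetVertex M₁ M₂) :
    stabilizer X δ ≤ Subgroup.normalizer (vertexVIter p M₁ M₂ n δ : Set X) := by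
  intro g hg
  rw [Subgroup.mem_normalizer_iff]
  refine fun x => ⟨fun hx => conj_mem_vIter hconn hg hx, fun hx => ?_⟩
  have := conj_mem_vIter hconn (inv_mem hg) hx
  simpa [mul_assoc] using this

theorem vIter_mono_adj [Fact p.Prime] (hconn : (cosetGraph M₁ M₂).Connected) {n m k : ℕ}
    {a b : CosetVertex M₁ M₂} (hd : (cosetGraph M₁ M₂).dist a b ≤ k) (hk : k + m ≤ n) :
    vertexVIter p M₁ M₂ m b ≤ vertexVIter p M₁ M₂ n a := by
  refine iSup_le fun ν => le_iSup (fun ν : {ν : CosetVertex M₁ M₂ // (cosetGraph M₁ M₂).dist a ν ≤ n} =>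
    vertexZ p (ν : CosetVertex M₁ M₂)) ⟨(ν : CosetVertex M₁ M₂), ?_⟩
  have := hconn.dist_triangle (u := a) (v := b) (w := (ν : CosetVertex M₁ M₂))
  have := ν.2
  omega

/-- `O^p(L_λ)`. -/
abbrev resL (p : ℕ) (δ : CosetVertex M₁ M₂) : Subgroup X :=
  (pResidual p ↥(pElementClosure p (stabilizer X δ))).map (pElementClosure p (stabilizer X δ)).subtype

set_option maxHeartbeats 1000000 in
theorem resL_transitive [Fact p.Prime] (h : IsSpeAmalgamPair p M₁ M₂) {δ ν ν' : CosetVertex M₁ M₂}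
    (hν : (cosetGraph M₁ M₂).Adj δ ν) (hν' : (cosetGraph M₁ M₂).Adj δ ν') :
    ∃ r ∈ resL p δ, r • ν = ν' := by
  obtain ⟨g, hg, hgν⟩ := spe_transitive h hν hν'
  haveI := finite_stab h.1 δ
  haveI : Finite ↥(pElementClosure p (stabilizer X δ)) :=
    Finite.of_injective (Subgroup.inclusion (pElementClosure_le _)) (Subgroup.inclusion_injective _)
  haveI : Finite ↥(edgeStabilizer δ ν) :=
    Finite.of_injective (Subgroup.inclusion (inf_le_left : edgeStabilizer δ ν ≤ stabilizer X δ))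
      (Subgroup.inclusion_injective _)
  obtain ⟨E⟩ : Nonempty (Sylow p ↥(edgeStabilizer δ ν)) := inferInstance
  obtain ⟨P, hP⟩ := exists_sylow_vertex h.1 hν E
  obtain ⟨T, hT⟩ : ∃ T, T = (P : Subgroup ↥(stabilizer X δ)).map (stabilizer X δ).subtype := ⟨_, rfl⟩
  have hTp : IsPGroup p T := hT ▸ P.isPGroup'.map _
  have hTs : T ≤ stabilizer X δ := hT ▸ Subgroup.map_subtype_le _
  have hTL : T ≤ pElementClosure p (stabilizer X δ) := le_pElementClosure hTs hTp
  obtain ⟨Q, hQ⟩ := (hTp.of_equiv (Subgroup.subgroupOfEquivOfLe hTL).symm).exists_le_sylow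
  have hQT : T.subgroupOf (pElementClosure p (stabilizer X δ)) = (Q : Subgroup _) := by
    refine Subgroup.eq_of_le_of_card_ge hQ ?_
    rw [Nat.card_congr (Subgroup.subgroupOfEquivOfLe hTL).toEquiv, hT,
      Subgroup.card_map_of_injective (stabilizer X δ).subtype_injective]
    obtain ⟨P', hP'⟩ := (Q.isPGroup'.map (Subgroup.inclusion (pElementClosure_le _))).exists_le_sylow
    have h1 := Subgroup.card_le_of_le hP'
    rw [Subgroup.card_map_of_injective (Subgroup.inclusion_injective _)] at h1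
    exact h1.trans (le_of_eq ((Sylow.card_eq_multiplicity P').trans (Sylow.card_eq_multiplicity P).symm))
  have hmem : (⟨g, hg⟩ : ↥(pElementClosure p (stabilizer X δ))) ∈
      pResidual p ↥(pElementClosure p (stabilizer X δ)) ⊔ (Q : Subgroup _) := by
    rw [Cfsg.Lib.Transfer.pResidual_sup_sylow Q]; trivial
  rw [Subgroup.mem_sup_of_normal_left] at hmem
  obtain ⟨r, hr, t, ht, hrt⟩ := hmem
  refine ⟨(r : X), ⟨r, hr, rfl⟩, ?_⟩
  have htT : (t : X) ∈ T := by rw [← hQT] at ht; exact ht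
  have htν : (t : X) • ν = ν := by
    rw [hT, hP] at htT
    exact mem_stabilizer_iff.mp (Subgroup.map_subtype_le _ htT).2
  rw [← hgν, show g = (r : X) * t from (congrArg Subtype.val hrt).symm, mul_smul, htν]

theorem vIter_le_sup [Fact p.Prime] (h : IsSpeAmalgamPair p M₁ M₂) {lam μ : CosetVertex M₁ M₂}
    (hμ : (cosetGraph M₁ M₂).Adj lam μ) {n : ℕ} (hn : 1 ≤ n) (D : Subgroup X)
    (hD : ⁅vertexVIter p M₁ M₂ n lam, resL p lam⁆ ≤ D) :
    vertexVIter p M₁ M₂ n lam ≤ vertexVIter p M₁ M₂ (n - 1) μ ⊔ D := by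
  have hconn := connected h.1.1.1
  have hnb : ∀ c, (cosetGraph M₁ M₂).Adj lam c →
      vertexVIter p M₁ M₂ (n - 1) c ≤ vertexVIter p M₁ M₂ (n - 1) μ ⊔ D := by
    intro c hc x hx
    obtain ⟨r, hr, hrc⟩ := resL_transitive h hc hμ
    have h1 : r * x * r⁻¹ ∈ vertexVIter p M₁ M₂ (n - 1) μ := hrc ▸ map_conj_vIter hconn r (n - 1) c ⟨x, hx, rfl⟩
    have hxV : x ∈ vertexVIter p M₁ M₂ n lam :=
      vIter_mono_adj hconn (le_of_eq (SimpleGraph.dist_eq_one_iff_adj.2 hc)) (by omega) hx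
    have h2 : ⁅x, r⁆ ∈ D := hD (Subgroup.commutator_mem_commutator hxV hr)
    have : x = ⁅x, r⁆ * (r * x * r⁻¹) := by rw [commutatorElement_def]; group
    rw [this]
    exact mul_mem (Subgroup.mem_sup_right h2) (Subgroup.mem_sup_left h1)
  refine iSup_le fun ν => ?_
  by_cases hne : lam = (ν : CosetVertex M₁ M₂)
  · rw [← hne, vertexZ, sylowCenterClosure]
    refine iSup_le fun S => ?_
    haveI := finite_stab h.1 lam
    haveI : Finite ↥(edgeStabilizer lam μ) :=
      Finite.of_injective (Subgroup.inclusion (inf_le_left : edgeStabilizer lam μ ≤ stabilizer X lam))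
        (Subgroup.inclusion_injective _)
    obtain ⟨E⟩ : Nonempty (Sylow p ↥(edgeStabilizer lam μ)) := inferInstance
    obtain ⟨P, hP⟩ := exists_sylow_vertex h.1 hμ E
    haveI : Finite ↥(edgeStabilizer μ lam) := by
      haveI := finite_stab h.1 μ
      exact Finite.of_injective (Subgroup.inclusion (inf_le_left : edgeStabilizer μ lam ≤ stabilizer X μ))
        (Subgroup.inclusion_injective _)
    obtain ⟨E', hE'⟩ : ∃ E' : Sylow p ↥(edgeStabilizer μ lam),
        (E' : Subgroup ↥(edgeStabilizer μ lam)).map (edgeStabilizer μ lam).subtype =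
          (E : Subgroup ↥(edgeStabilizer lam μ)).map (edgeStabilizer lam μ).subtype := by
      have hswap : edgeStabilizer lam μ = edgeStabilizer μ lam := inf_comm _ _
      rw [← hswap]; exact ⟨E, rfl⟩
    obtain ⟨Pμ, hPμ⟩ := exists_sylow_vertex h.1 hμ.symm E'
    obtain ⟨g, hg⟩ := MulAction.exists_smul_eq ↥(stabilizer X lam) P S
    show omegaZ p ((S : Subgroup ↥(stabilizer X lam)).map (stabilizer X lam).subtype) ≤ _
    rw [← hg, sylow_map_conj, hP, ← hE', ← hPμ]
    have hadj : (cosetGraph M₁ M₂).Adj lam ((g : X) • μ) := by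
      have := adj_smul (g : X) hμ
      rwa [mem_stabilizer_iff.mp g.2] at this
    refine le_trans ?_ (hnb _ hadj)
    intro y hy
    -- the conjugate term
    have h1 : (g : X)⁻¹ * y * g ∈ omegaZ p ((Pμ : Subgroup ↥(stabilizer X μ)).map (stabilizer X μ).subtype) := by
      have h2 := map_conj_omegaZ p _ (g : X)⁻¹ ⟨y, hy, rfl⟩
      rw [Subgroup.map_map] at h2
      have e : (MulAut.conj (g : X)⁻¹).toMonoidHom.comp (MulAut.conj (g : X)).toMonoidHom = MonoidHom.id X := by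
        ext x; simp [MulAut.conj_apply, mul_assoc]
      rw [e, Subgroup.map_id] at h2
      simpa [MulAut.conj_apply] using h2
    have h3 := map_conj_vertexZ (g : X) μ ⟨_, sylow_term_le_vertexZ μ Pμ h1, rfl⟩
    have h4 : y ∈ vertexZ p ((g : X) • μ) := by simpa [MulAut.conj_apply, mul_assoc] using h3
    exact le_iSup (fun ν : {ν : CosetVertex M₁ M₂ // (cosetGraph M₁ M₂).dist ((g : X) • μ) ν ≤ n - 1} =>
      vertexZ p (ν : CosetVertex M₁ M₂)) ⟨(g : X) • μ, by simp⟩ h4
  · obtain ⟨c, hc, hd⟩ := exists_adj_dist hconn hne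
    refine le_trans ?_ (hnb c hc)
    exact le_iSup (fun ν : {ν : CosetVertex M₁ M₂ // (cosetGraph M₁ M₂).dist c ν ≤ n - 1} =>
      vertexZ p (ν : CosetVertex M₁ M₂)) ⟨(ν : CosetVertex M₁ M₂), by have := ν.2; omega⟩

theorem vertexZ_ne_bot [Fact p.Prime] (h : IsCharPAmalgamPair p M₁ M₂) (δ : CosetVertex M₁ M₂) :
    vertexZ p δ ≠ ⊥ := by
  haveI := finite_stab h δ
  obtain ⟨S⟩ : Nonempty (Sylow p ↥(stabilizer X δ)) := inferInstance
  intro hb
  obtain ⟨T, hT⟩ : ∃ T, T = (S : Subgroup ↥(stabilizer X δ)).map (stabilizer X δ).subtype := ⟨_, rfl⟩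
  have hTp : IsPGroup p T := hT ▸ S.isPGroup'.map _
  haveI : Finite T := Finite.of_injective (Subgroup.inclusion (hT ▸ Subgroup.map_subtype_le _ : T ≤ stabilizer X δ))
    (Subgroup.inclusion_injective _)
  have hdvd : p ∣ Nat.card ↥(stabilizer X δ) := by
    obtain ⟨-, -, -, h1, h2, -⟩ := h
    rcases δ with a | a
    · induction a using QuotientGroup.induction_on with
      | H x => rw [stab_inl_mk, Subgroup.card_map_of_injective (MulAut.conj x).injective]; exact h1
    · induction a using QuotientGroup.induction_on with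
      | H x => rw [stab_inr_mk, Subgroup.card_map_of_injective (MulAut.conj x).injective]; exact h2
  haveI : Nontrivial T := by
    have h1 : p ∣ Nat.card T := by
      rw [hT, Subgroup.card_map_of_injective (stabilizer X δ).subtype_injective]
      exact S.dvd_card_of_dvd_card hdvd
    rw [← Finite.one_lt_card_iff_nontrivial]
    exact lt_of_lt_of_le (Fact.out : p.Prime).one_lt (Nat.le_of_dvd Nat.card_pos h1)
  haveI : Nontrivial (Subgroup.center T) := hTp.center_nontrivial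
  obtain ⟨k, hk⟩ := IsPGroup.iff_card.mp (hTp.to_subgroup (Subgroup.center T))
  have hk0 : k ≠ 0 := fun e => by
    rw [e, pow_zero] at hk
    have := Finite.one_lt_card (α := Subgroup.center T)
    omega
  obtain ⟨z, hz⟩ := exists_prime_orderOf_dvd_card' p (hk ▸ dvd_pow_self p hk0)
  have hzmem : ((z : T) : X) ∈ omegaZ p T := by
    refine Subgroup.subset_closure ⟨⟨(z : T).2, Subgroup.mem_centralizer_iff.mpr fun t ht => ?_⟩, ?_⟩
    · exact congrArg Subtype.val (Subgroup.mem_center_iff.mp z.2 ⟨t, ht⟩)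
    · rw [← hz, ← Subgroup.coe_pow, ← Subgroup.coe_pow, pow_orderOf_eq_one]; rfl
  have hle : omegaZ p T ≤ vertexZ p δ := by rw [hT]; exact sylow_term_le_vertexZ δ S
  have h1 := hle hzmem
  rw [hb, Subgroup.mem_bot] at h1
  have h2 : z = 1 := Subtype.ext (Subtype.ext h1)
  rw [h2, orderOf_one] at hz
  exact (Fact.out : p.Prime).one_lt.ne hz

theorem vertexQ_le_edge' [Fact p.Prime] (h : IsCharPAmalgamPair p M₁ M₂) {δ μ : CosetVertex M₁ M₂}
    (hμ : (cosetGraph M₁ M₂).Adj δ μ) : vertexQ p δ ≤ stabilizer X δ ⊓ stabilizer X μ :=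
  le_inf (Subgroup.map_subtype_le _) ((vertexQ_le_kernel h δ).trans (kernel_le_stab hμ))

theorem vIter_eq_absurd [Fact p.Prime] (h : IsSpeAmalgamPair p M₁ M₂) {lam μ : CosetVertex M₁ M₂}
    (hμ : (cosetGraph M₁ M₂).Adj lam μ) {n : ℕ} (hn : 1 ≤ n)
    (hVQ : vertexVIter p M₁ M₂ n lam ≤ vertexQ p lam)
    (heq : vertexVIter p M₁ M₂ n lam ≤ vertexVIter p M₁ M₂ (n - 1) μ) : False := by
  have hconn := connected h.1.1.1
  have hVW : vertexVIter p M₁ M₂ n lam = vertexVIter p M₁ M₂ (n - 1) μ :=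
    le_antisymm heq (vIter_mono_adj hconn (le_of_eq (SimpleGraph.dist_eq_one_iff_adj.2 hμ)) (by omega))
  have hbot := spe_eq_bot h hμ (hVQ.trans (vertexQ_le_edge' h.1 hμ))
    ((pElementClosure_le _).trans (stab_le_normalizer_vIter hconn n lam))
    ((pElementClosure_le _).trans (hVW ▸ stab_le_normalizer_vIter hconn (n - 1) μ))
  refine vertexZ_ne_bot h.1 lam (le_bot_iff.mp ?_)
  rw [← hbot]
  exact le_iSup (fun ν : {ν : CosetVertex M₁ M₂ // (cosetGraph M₁ M₂).dist lam ν ≤ n} =>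
    vertexZ p (ν : CosetVertex M₁ M₂)) ⟨lam, by simp⟩

theorem not_commutator_le_commutator [Fact p.Prime] (h : IsSpeAmalgamPair p M₁ M₂) (lam : CosetVertex M₁ M₂)
    {n : ℕ} (hn : 1 ≤ n) (hVQ : vertexVIter p M₁ M₂ n lam ≤ vertexQ p lam) :
    ¬ ⁅vertexVIter p M₁ M₂ n lam, resL p lam⁆ ≤ ⁅vertexVIter p M₁ M₂ n lam, vertexQ p lam⁆ := by
  intro hle
  obtain ⟨μ, hμ⟩ := exists_neighbour lam
  obtain ⟨V, hV⟩ : ∃ V, V = vertexVIter p M₁ M₂ n lam := ⟨_, rfl⟩
  obtain ⟨W, hW⟩ : ∃ W, W = vertexVIter p M₁ M₂ (n - 1) μ := ⟨_, rfl⟩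
  obtain ⟨Q, hQ⟩ : ∃ Q, Q = vertexQ p lam := ⟨_, rfl⟩
  have hsup : V ≤ W ⊔ ⁅V, Q⁆ := by
    rw [hV, hW, hQ]; exact vIter_le_sup h hμ hn _ hle
  rw [← hV, ← hQ] at hVQ
  have hconn := connected h.1.1.1
  have hWn : Q ≤ Subgroup.normalizer (W : Set X) := by
    rw [hQ, hW]
    exact ((vertexQ_le_edge' h.1 hμ).trans inf_le_right).trans (stab_le_normalizer_vIter hconn _ μ)
  haveI := finite_stab h.1 lam
  haveI : Finite Q := Finite.of_injective (Subgroup.inclusion (hQ ▸ Subgroup.map_subtype_le _ : Q ≤ stabilizer X lam))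
    (Subgroup.inclusion_injective _)
  have hQp : IsPGroup p Q := hQ ▸ (Cfsg.Lib.Components.isPGroup_pCore p).map _
  haveI : Group.IsNilpotent Q := hQp.isNilpotent
  have key : ∀ k, V ≤ W ⊔ Q.lowerCentralSeries k := by
    intro k
    induction k with
    | zero =>
      intro v hv
      exact Subgroup.mem_sup_right (hVQ hv)
    | succ k ih =>
      refine hsup.trans (sup_le le_sup_left ?_)
      rw [Subgroup.commutator_le]
      intro v hv q hq
      have hv' := ih hv
      have hnorm : Q.lowerCentralSeries k ≤ Subgroup.normalizer (W : Set X) :=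
        (Q.lowerCentralSeries_antitone (Nat.zero_le k)).trans hWn
      rw [← SetLike.mem_coe, Subgroup.coe_mul_of_right_le_normalizer_left _ _ hnorm] at hv'
      obtain ⟨w, hw, l, hl, rfl⟩ := hv'
      have e : ⁅w * l, q⁆ = w * ⁅l, q⁆ * w⁻¹ * (w * (q * w⁻¹ * q⁻¹)) := by
        simp only [commutatorElement_def]; group
      show ⁅w * l, q⁆ ∈ _
      rw [e]
      have h1 : ⁅l, q⁆ ∈ Q.lowerCentralSeries (k + 1) :=
        Subgroup.commutator_mem_commutator hl hq
      refine mul_mem (mul_mem (mul_mem (Subgroup.mem_sup_left hw) (Subgroup.mem_sup_right h1))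
        (Subgroup.mem_sup_left (inv_mem hw))) (Subgroup.mem_sup_left (mul_mem hw ?_))
      exact (Subgroup.mem_normalizer_iff.mp (hWn hq) _).mp (inv_mem hw)
  obtain ⟨k, hk⟩ := (Subgroup.isNilpotent_iff_lowerCentralSeries Q).mp (inferInstance : Group.IsNilpotent Q)
  have := key k
  rw [hk, sup_bot_eq, hV, hW] at this
  exact vIter_eq_absurd h hμ hn (hQ ▸ hV ▸ hVQ) this

theorem not_commutator_le_sub_two [Fact p.Prime] (h : IsSpeAmalgamPair p M₁ M₂) (lam : CosetVertex M₁ M₂)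
    {n : ℕ} (hn : 2 ≤ n) (hVQ : vertexVIter p M₁ M₂ n lam ≤ vertexQ p lam) :
    ¬ ⁅vertexVIter p M₁ M₂ n lam, resL p lam⁆ ≤ vertexVIter p M₁ M₂ (n - 2) lam := by
  intro hle
  obtain ⟨μ, hμ⟩ := exists_neighbour lam
  refine vIter_eq_absurd h hμ (by omega) hVQ ((vIter_le_sup h hμ (by omega) _ hle).trans (sup_le le_rfl ?_))
  exact vIter_mono_adj (connected h.1.1.1) (le_of_eq (SimpleGraph.dist_eq_one_iff_adj.2 hμ.symm)) (by omega)

end Cfsg.Lib.Amalgam
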